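import Groth.Agent.Lib.FppfPh.Split
import Groth.Agent.Lib.HTop.PhBind
import Groth.Agent.Lib.EtDescent.FiniteChart
import Mathlib.AlgebraicGeometry.Morphisms.Etale
import Mathlib.AlgebraicGeometry.Morphisms.Finite
import Mathlib.RingTheory.Unramified.LocalStructure

/-!
# fppf coverings are ph coverings
-/

universe w u

open CategoryTheory CategoryTheory.Limits AlgebraicGeometry TopologicalSpace

namespace GrothLib.FppfPh

open _root_.HTop GrothLib.HTop

/-- Zariski locally, an étale morphism has sections after a finite surjective base change,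
Zariski locally on the source of the latter. -/
theorem exists_finite_local_lift {R : CommRingCat.{u}} {S' : Scheme.{u}} (j : S' ⟶ Spec R) [Etale j]
    (s' : S') :
    ∃ (W : (Spec R).Opens), j s' ∈ W ∧ IsAffineOpen W ∧ ∃ (Y : Scheme.{u}) (π : Y ⟶ W.toScheme),
      IsFinite π ∧ Surjective π ∧ ∀ y : Y, ∃ (D : Y.Opens) (k : D.toScheme ⟶ S'),
        y ∈ D ∧ IsAffineOpen D ∧ k ≫ j = D.ι ≫ π ≫ W.ι := by
  obtain ⟨V, hV, hsV, -⟩ := exists_isAffineOpen_mem_and_subset (x := s') (U := (⊤ : S'.Opens)) trivial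
  obtain ⟨ψ, hψ⟩ := Spec.map_surjective (hV.fromSpec ≫ j)
  have he : ψ.hom.Etale := (HasRingHomProperty.Spec_iff (P := @Etale)).1 (by rw [hψ]; infer_instance)
  let : Algebra R Γ(S', V) := ψ.hom.toAlgebra
  have : Algebra.Etale R Γ(S', V) := he
  obtain ⟨Q, hQ⟩ : ∃ Q, hV.fromSpec Q = s' := hV.range_fromSpec.symm.subset hsV
  have : Algebra.IsEtaleAt R Q.asIdeal :=
    (Algebra.etaleLocus_eq_univ_iff.2 (inferInstance : Algebra.FormallyEtale R Γ(S', V))).symm.subset (Set.mem_univ (α := PrimeSpectrum Γ(S', V)) Q)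
  obtain ⟨b, hbQ, hb⟩ := Algebra.IsEtaleAt.exists_isStandardEtale (R := R) Q.asIdeal
  let Bb := Localization.Away b
  obtain ⟨C, _, _, hfin, hsurj, hC⟩ := exists_split R Bb
  let e : Spec (CommRingCat.of Bb) ⟶ S' :=
    Spec.map (CommRingCat.ofHom (algebraMap Γ(S', V) Bb)) ≫ hV.fromSpec
  have hej : e ≫ j = Spec.map (CommRingCat.ofHom (algebraMap R Bb)) := by
    rw [Category.assoc, ← hψ, ← Spec.map_comp]
    rfl
  have : IsOpenImmersion e := by
    have : IsOpenImmersion (Spec.map (CommRingCat.ofHom (algebraMap Γ(S', V) Bb))) :=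
      IsOpenImmersion.of_isLocalization b
    infer_instance
  obtain ⟨Q', hQ'⟩ : ∃ Q', e Q' = s' := by
    have hr : Q ∈ Set.range (PrimeSpectrum.comap (algebraMap Γ(S', V) Bb)) := by
      rw [PrimeSpectrum.localization_away_comap_range Bb b]; exact hbQ
    obtain ⟨Q', hQ'⟩ := hr
    exact ⟨Q', (congrArg hV.fromSpec hQ').trans hQ⟩
  let J := e ≫ j
  let O : (Spec R).Opens := ⟨Set.range J, J.isOpenMap.isOpen_range⟩
  obtain ⟨W, hW, hxW, hWO⟩ := exists_isAffineOpen_mem_and_subset (x := j s') (U := O)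
    ⟨Q', by show (e ≫ j) Q' = _; rw [Scheme.Hom.comp_apply, hQ']⟩
  let π₀ : Spec (CommRingCat.of C) ⟶ Spec R := Spec.map (CommRingCat.ofHom (algebraMap R C))
  have : IsFinite π₀ := (IsFinite.SpecMap_iff _).2 (RingHom.finite_algebraMap.2 hfin)
  have : Surjective π₀ := ⟨hsurj⟩
  have : IsFinite (π₀ ∣_ W) := IsZariskiLocalAtTarget.restrict ‹IsFinite π₀› _
  have : Surjective (π₀ ∣_ W) := IsZariskiLocalAtTarget.restrict ‹Surjective π₀› _
  refine ⟨W, hxW, hW, _, π₀ ∣_ W, ‹_›, ‹_›, fun y => ?_⟩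
  obtain ⟨p, hp⟩ := hWO (show π₀ ((π₀ ⁻¹ᵁ W).ι y) ∈ W from y.2)
  have hp' : PrimeSpectrum.comap (algebraMap R Bb) p =
      PrimeSpectrum.comap (algebraMap R C) ((π₀ ⁻¹ᵁ W).ι y) := by
    rw [show J = _ from hej] at hp
    exact hp
  obtain ⟨c, hc, ⟨φ⟩⟩ := hC p _ hp'
  let ec : Spec (CommRingCat.of (Localization.Away c)) ⟶ Spec (CommRingCat.of C) :=
    Spec.map (CommRingCat.ofHom (algebraMap C (Localization.Away c)))
  have : IsOpenImmersion ec := IsOpenImmersion.of_isLocalization c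
  obtain ⟨D, hD, hyD, hDc⟩ := exists_isAffineOpen_mem_and_subset (x := y)
    (U := (π₀ ⁻¹ᵁ W).ι ⁻¹ᵁ ec.opensRange) (show (π₀ ⁻¹ᵁ W).ι y ∈ Set.range ec from by
      have hr : (π₀ ⁻¹ᵁ W).ι y ∈ Set.range (PrimeSpectrum.comap (algebraMap C (Localization.Away c))) := by
        rw [PrimeSpectrum.localization_away_comap_range (Localization.Away c) c]; exact hc
      exact hr)
  have hrange : Set.range (D.ι ≫ (π₀ ⁻¹ᵁ W).ι) ⊆ Set.range ec := by
    rintro _ ⟨z, rfl⟩
    rw [Scheme.Hom.comp_apply]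
    exact hDc z.2
  refine ⟨D, IsOpenImmersion.lift ec (D.ι ≫ (π₀ ⁻¹ᵁ W).ι) hrange ≫
    Spec.map (CommRingCat.ofHom φ.toRingHom) ≫ e, hyD, hD, ?_⟩
  rw [Category.assoc, Category.assoc, hej, ← Spec.map_comp, morphismRestrict_ι, ← Category.assoc D.ι]
  conv_rhs => rw [← IsOpenImmersion.lift_fac ec (D.ι ≫ (π₀ ⁻¹ᵁ W).ι) hrange, Category.assoc, ← Spec.map_comp]
  congr 2
  rw [← CommRingCat.ofHom_comp, ← CommRingCat.ofHom_comp, AlgHom.toRingHom_eq_coe, AlgHom.comp_algebraMap,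
    ← IsScalarTower.algebraMap_eq]

variable {T : Scheme.{u}} (E : PreZeroHypercover.{w} T)
    (hflat : ∀ i, Flat (E.f i)) (hfp : ∀ i, LocallyOfFinitePresentation (E.f i))
    (hsurj : ∀ t : T, ∃ (i : E.I₀) (x : E.X i), E.f i x = t)

include hflat hfp hsurj in
theorem phGood_spec {R : CommRingCat.{u}} (g : Spec R ⟶ T) : PhGood E g := by
  refine PhGood.of_locally g fun x => ?_
  obtain ⟨i, z, hz⟩ := hsurj (g x)
  have := hflat i
  have := hfp i
  let f₁ := pullback.fst g (E.f i)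
  let U₀ : (Spec R).Opens := ⟨Set.range f₁, f₁.isOpenMap.isOpen_range⟩
  have hx : x ∈ U₀ := by
    obtain ⟨w, hw, -⟩ := Scheme.Pullback.exists_preimage_pullback (f := g) (g := E.f i) x z hz.symm
    exact ⟨w, hw⟩
  let f₂ := f₁ ∣_ U₀
  have : Surjective f₂ := ⟨fun u => by
    obtain ⟨a, ha⟩ := u.2
    refine ⟨⟨a, show f₁ a ∈ U₀ from ⟨a, rfl⟩⟩, U₀.ι.isOpenEmbedding.injective ?_⟩
    rw [← Scheme.Hom.comp_apply, morphismRestrict_ι]
    exact ha⟩
  obtain ⟨S', Q, j₀, _, q, h, hq, hqs, hcomm, s', hs'⟩ :=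
    GrothLib.EtDescent.exists_finite_chart f₂ ⟨x, hx⟩
  let j : S' ⟶ Spec R := j₀ ≫ U₀.ι
  have hjx : j s' = x := by
    show (j₀ ≫ U₀.ι) s' = x
    rw [Scheme.Hom.comp_apply, show j₀ s' = ⟨x, hx⟩ from hs']
    rfl
  obtain ⟨W, hxW, hW, Y, π, hπ, hπs, hlift⟩ := exists_finite_local_lift j s'
  rw [hjx] at hxW
  refine ⟨W, hxW, hW, ?_⟩
  have : IsAffine _ := hW
  choose D k hyD hD hk using hlift
  have hgood : ∀ y, PhGood E ((D y).ι ≫ π ≫ W.ι ≫ g) := by
    intro y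
    have : IsAffine _ := hD y
    have : Surjective (pullback.fst (k y) q) := MorphismProperty.pullback_fst _ _ hqs
    have : IsFinite (pullback.fst (k y) q) := MorphismProperty.pullback_fst _ _ hq
    refine exists_standardPh _ E (pullback.fst (k y) q) fun z' => ?_
    obtain ⟨Z, hZ, hzZ, -⟩ := exists_isAffineOpen_mem_and_subset (x := z')
      (U := (⊤ : (pullback (k y) q).Opens)) trivial
    refine ⟨Z, Z.ι, hZ, inferInstance, ⟨⟨z', hzZ⟩, rfl⟩, i,
      Z.ι ≫ pullback.snd (k y) q ≫ h ≫ (f₁ ⁻¹ᵁ U₀).ι ≫ pullback.snd g (E.f i), ?_⟩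
    simp only [Category.assoc]
    congr 1
    rw [← pullback.condition, ← Category.assoc (f₁ ⁻¹ᵁ U₀).ι, ← morphismRestrict_ι]
    simp only [Category.assoc]
    rw [reassoc_of% hcomm, ← pullback.condition_assoc]
    congr 1
    rw [← reassoc_of% (hk y)]
    simp [j]
  obtain ⟨G, hG, hr⟩ := exists_standardPh (𝟙 W.toScheme)
    (⟨Y, fun y => (D y).toScheme, fun y => (D y).ι ≫ π⟩ : PreZeroHypercover.{u} W.toScheme) π
    fun y => ⟨D y, (D y).ι, hD y, inferInstance, ⟨⟨y, hyD y⟩, rfl⟩, y, 𝟙 _, by simp⟩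
  refine PhGood.of_standardPh _ G hG fun m => ?_
  obtain ⟨y, a, ha⟩ := hr m
  rw [Category.comp_id] at ha
  have := hG.isAffine_obj m
  have h2 := (hgood y).comp a
  rw [← ha]
  simpa only [Category.assoc] using h2

include hflat hfp hsurj in
theorem isPhCover_of_fppf : IsPhCover E := by
  refine ⟨fun i => by have := hfp i; infer_instance, fun U => ?_⟩
  have : IsAffine _ := U.2
  have h := (phGood_spec E hflat hfp hsurj ((U.1.toScheme).isoSpec.inv ≫ U.1.ι)).comp U.1.toScheme.isoSpec.hom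
  rw [Iso.hom_inv_id_assoc] at h
  exact h

end GrothLib.FppfPh
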