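import Mathlib.RingTheory.AdjoinRoot
import Mathlib.RingTheory.Etale.StandardEtale
import Mathlib.RingTheory.LocalRing.ResidueField.Ideal
import Mathlib.RingTheory.Flat.FaithfullyFlat.Algebra
import Mathlib.Algebra.Polynomial.Splits
import Mathlib.RingTheory.Spectrum.Prime.Basic

/-!
# A standard étale algebra has local sections over the spectrum of a splitting algebra
-/

universe u

open Polynomial TensorProduct

namespace GrothLib.FppfPh

theorem exists_split (R S : Type u) [CommRing R] [CommRing S] [Algebra R S] [Algebra.IsStandardEtale R S] :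
    ∃ (C : Type u) (_ : CommRing C) (_ : Algebra R C), Module.Finite R C ∧
      Function.Surjective (PrimeSpectrum.comap (algebraMap R C)) ∧
      ∀ (p : PrimeSpectrum S) (q : PrimeSpectrum C),
        PrimeSpectrum.comap (algebraMap R S) p = PrimeSpectrum.comap (algebraMap R C) q →
        ∃ c : C, c ∉ q.asIdeal ∧ Nonempty (S →ₐ[R] Localization.Away c) := by
  rcases subsingleton_or_nontrivial R with hR | hR
  · refine ⟨R, inferInstance, inferInstance, inferInstance, fun x => ⟨x, PrimeSpectrum.ext rfl⟩, fun p q _ => ?_⟩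
    exact absurd (Subsingleton.elim (1 : R) 0 ▸ q.asIdeal.zero_mem) ((Ideal.ne_top_iff_one _).1 q.2.ne_top)
  obtain ⟨P⟩ := Algebra.IsStandardEtale.nonempty_standardEtalePresentation (R := R) (S := S)
  obtain ⟨C, _, _, hfin, hfree, hnt, hsplit⟩ := P.P.monic_f.exists_splits_map
  haveI := hfin
  haveI := hfree
  haveI := hnt
  refine ⟨C, inferInstance, inferInstance, inferInstance,
    PrimeSpectrum.comap_surjective_of_faithfullyFlat, fun p q hpq => ?_⟩
  obtain ⟨P₀, hP₀⟩ : ∃ P₀, P₀ = PrimeSpectrum.comap (algebraMap R S) p := ⟨_, rfl⟩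
  haveI : p.asIdeal.LiesOver P₀.asIdeal := ⟨by rw [hP₀]; rfl⟩
  haveI : q.asIdeal.LiesOver P₀.asIdeal := ⟨by rw [hP₀, hpq]; rfl⟩
  letI := Localization.AtPrime.algebraOfLiesOver P₀.asIdeal p.asIdeal
  letI := Localization.AtPrime.algebraOfLiesOver P₀.asIdeal q.asIdeal
  haveI : Nontrivial (p.asIdeal.ResidueField ⊗[P₀.asIdeal.ResidueField] q.asIdeal.ResidueField) :=
    inferInstance
  obtain ⟨M, hM⟩ := Ideal.exists_maximal (p.asIdeal.ResidueField ⊗[P₀.asIdeal.ResidueField] q.asIdeal.ResidueField)
  let K := (p.asIdeal.ResidueField ⊗[P₀.asIdeal.ResidueField] q.asIdeal.ResidueField) ⧸ M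
  letI : Field K := Ideal.Quotient.field M
  let iS : S →+* K := (Ideal.Quotient.mk M).comp
    ((Algebra.TensorProduct.includeLeftRingHom).comp (algebraMap S p.asIdeal.ResidueField))
  let iC : C →+* K := (Ideal.Quotient.mk M).comp
    (((Algebra.TensorProduct.includeRight :
      q.asIdeal.ResidueField →ₐ[P₀.asIdeal.ResidueField]
        p.asIdeal.ResidueField ⊗[P₀.asIdeal.ResidueField] q.asIdeal.ResidueField).toRingHom).comp
      (algebraMap C q.asIdeal.ResidueField))
  have hcomm : iS.comp (algebraMap R S) = iC.comp (algebraMap R C) := by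
    ext r
    have h : (algebraMap R P₀.asIdeal.ResidueField r) • (1 : p.asIdeal.ResidueField) ⊗ₜ[P₀.asIdeal.ResidueField] (1 : q.asIdeal.ResidueField) =
        (1 : p.asIdeal.ResidueField) ⊗ₜ[P₀.asIdeal.ResidueField] ((algebraMap R P₀.asIdeal.ResidueField r) • (1 : q.asIdeal.ResidueField)) := by
      rw [TensorProduct.tmul_smul]
    rw [TensorProduct.smul_tmul', Algebra.smul_def, mul_one, Algebra.smul_def, mul_one,
      ← IsScalarTower.algebraMap_apply, ← IsScalarTower.algebraMap_apply] at h
    show Ideal.Quotient.mk M _ = Ideal.Quotient.mk M _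
    congr 1
  obtain ⟨m, hm⟩ := splits_iff_exists_multiset'.1 hsplit
  rw [(P.P.monic_f.map _).leadingCoeff, C_1, one_mul] at hm
  have hroot : (P.f.map (iC.comp (algebraMap R C))).eval (iS P.x) = 0 := by
    rw [← hcomm, Polynomial.eval_map, ← Polynomial.hom_eval₂, ← Polynomial.aeval_def, P.hasMap.1, map_zero]
  rw [← Polynomial.map_map, hm, Polynomial.map_multiset_prod, Polynomial.eval_multiset_prod,
    Multiset.prod_eq_zero_iff, Multiset.map_map, Multiset.map_map, Multiset.mem_map] at hroot
  obtain ⟨a, ha, ha0⟩ := hroot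
  simp only [Function.comp_apply, Polynomial.map_add, Polynomial.map_X, Polynomial.map_C, Polynomial.eval_add,
    Polynomial.eval_X, Polynomial.eval_C] at ha0
  have hroot' : aeval (-a) P.f = 0 := by
    rw [Polynomial.aeval_def, ← Polynomial.eval_map, hm, Polynomial.eval_multiset_prod]
    refine Multiset.prod_eq_zero ?_
    rw [Multiset.map_map, Multiset.mem_map]
    exact ⟨a, ha, by simp⟩
  refine ⟨aeval (-a) P.g, fun hq => ?_, ⟨(P.P.lift (algebraMap C _ (-a)) ⟨?_, ?_⟩).comp P.equivRing.toAlgHom⟩⟩
  · have h1 : iC (aeval (-a) P.g) = 0 := by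
      show Ideal.Quotient.mk M (Algebra.TensorProduct.includeRight (algebraMap C q.asIdeal.ResidueField _)) = 0
      rw [Ideal.algebraMap_residueField_eq_zero.2 hq, map_zero, map_zero]
    have h2 : iC (aeval (-a) P.g) = iS (aeval P.x P.g) := by
      rw [Polynomial.aeval_def, Polynomial.hom_eval₂, Polynomial.aeval_def, Polynomial.hom_eval₂, hcomm,
        map_neg, ← eq_neg_of_add_eq_zero_left ha0]
    exact (P.hasMap.2.map iS).ne_zero (h2.symm.trans h1)
  · rw [Polynomial.aeval_algebraMap_apply, hroot', map_zero]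
  · rw [Polynomial.aeval_algebraMap_apply]
    exact IsLocalization.Away.algebraMap_isUnit _

end GrothLib.FppfPh
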